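import Groth.Prelude.Def_Pi1
import Groth.Agent.Proj16.CurveTop
import Groth.Agent.Eg2RatExt.Basic

/-!
# Normal curves: local rings and extension of morphisms to proper schemes
-/

noncomputable section

universe u

open CategoryTheory CategoryTheory.Limits AlgebraicGeometry IsLocalRing TopologicalSpace

namespace Groth.Agent.Eg2Curve

variable {k : Type u} [Field k] {X : Scheme.{u}} (p : X ⟶ Spec (CommRingCat.of k))
  [LocallyOfFiniteType p]

include p in
theorem ringKrullDim_stalk_le_one
    (h : ∀ x : X, IsClosed ({x} : Set X) → ringKrullDim (X.presheaf.stalk x) = 1) (x : X) :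
    ringKrullDim (X.presheaf.stalk x) ≤ 1 := by
  obtain ⟨c, hxc, hc⟩ := VarDim.exists_closed_specialization p x
  rw [← h c hc, ringKrullDim_stalk_eq_coheight, ringKrullDim_stalk_eq_coheight]
  exact_mod_cast Order.coheight_anti (show c ≤ x from hxc)

theorem isReduced_of_normal (hn : Pi1.IsNormalScheme X) : IsReduced X := by
  haveI : ∀ x : X, _root_.IsReduced (X.presheaf.stalk x) := fun x => by
    haveI := (hn x).1
    infer_instance
  exact isReduced_of_isReduced_stalk X

include p in
theorem isRegularLocalRing_stalk (hn : Pi1.IsNormalScheme X) (x : X)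
    (hd : ringKrullDim (X.presheaf.stalk x) ≤ 1) :
    IsRegularLocalRing (X.presheaf.stalk x) := by
  haveI : IsLocallyNoetherian X := LocallyOfFiniteType.isLocallyNoetherian p
  obtain ⟨h1, h2⟩ := hn x
  haveI := h1
  have hp : IsPrincipalIdealRing (X.presheaf.stalk x) := by
    have hiff : (IsIntegrallyClosed (X.presheaf.stalk x) ∧
        ∀ P : Ideal (X.presheaf.stalk x), P ≠ ⊥ → P.IsPrime → P = maximalIdeal _) ↔
        IsPrincipalIdealRing (X.presheaf.stalk x) :=
      (tfae_of_isNoetherianRing_of_isLocalRing_of_isDomain (X.presheaf.stalk x)).out 3 0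
    refine hiff.mp ⟨h2, fun P hP hPp => ?_⟩
    haveI : Ring.KrullDimLE 1 (X.presheaf.stalk x) :=
      Ring.krullDimLE_iff.mpr (by exact_mod_cast hd)
    haveI := hPp
    exact eq_maximalIdeal (Ideal.isMaximal_of_isPrime_of_ne_bot P hP)
  infer_instance

include p in
theorem existsUnique_extension (hcurve : ∀ x : X, IsClosed ({x} : Set X) → ringKrullDim (X.presheaf.stalk x) = 1)
    (hn : Pi1.IsNormalScheme X) {Y S : Scheme.{u}} (sY : Y ⟶ S) [IsProper sY] (q : X ⟶ S)
    (U : X.Opens) (hU : Dense (U : Set X)) (g : (U : Scheme.{u}) ⟶ Y) (hg : g ≫ sY = U.ι ≫ q) :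
    ∃! g' : X ⟶ Y, U.ι ≫ g' = g ∧ g' ≫ sY = q := by
  haveI : IsLocallyNoetherian X := LocallyOfFiniteType.isLocallyNoetherian p
  haveI := isReduced_of_normal hn
  obtain ⟨U', hUU', g', hg', hgU, hall⟩ := Eg2RatExt.exists_extension_proper sY q
    (fun x hx => isRegularLocalRing_stalk p hn x hx) U hU g hg
  have hU' : U' = ⊤ := top_le_iff.mp fun x _ => hall x (ringKrullDim_stalk_le_one p hcurve x)
  subst hU'
  haveI : IsDominant U.ι := ⟨by simpa [DenseRange] using hU⟩
  haveI : IsIso (⊤ : X.Opens).ι := by rw [← Scheme.topIso_hom]; infer_instance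
  refine ⟨inv (⊤ : X.Opens).ι ≫ g', ⟨?_, ?_⟩, fun g'' ⟨h1, h2⟩ => ?_⟩
  · rw [← hgU, ← Category.assoc]
    congr 1
    rw [IsIso.comp_inv_eq, Scheme.homOfLE_ι]
  · rw [Category.assoc, hg', IsIso.inv_hom_id_assoc]
  · refine ext_of_isDominant_of_isSeparated sY ?_ U.ι ?_
    · rw [h2, Category.assoc, hg', IsIso.inv_hom_id_assoc]
    · rw [h1, ← hgU, ← Category.assoc]
      congr 1
      rw [eq_comm, IsIso.comp_inv_eq, Scheme.homOfLE_ι]

end Groth.Agent.Eg2Curve
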