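import Groth.Prelude.Def_CurvBase
import Groth.Agent.Proj16.Centre
import Groth.Agent.Eg2Curve.Basic

/-!
# Normal curves and their function fields
-/

noncomputable section

universe u

open CategoryTheory CategoryTheory.Limits AlgebraicGeometry IsLocalRing TopologicalSpace

namespace Groth.Agent.Eg2Curve

attribute [local instance] Curv2.stalkAlgebra

theorem over_spec (k : Type u) [Field k] (X : Scheme.{u}) [X.Over (Spec (CommRingCat.of k))] (x : X) :
    X.fromSpecStalk x ≫ (X ↘ (Spec (CommRingCat.of k))) =
      Spec.map (CommRingCat.ofHom (Curv2.stalkMap k X x)) := by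
  set p := X ↘ (Spec (CommRingCat.of k))
  have hp : p = X.toSpecΓ ≫ Spec.map ((Scheme.ΓSpecIso (CommRingCat.of k)).inv ≫ p.appTop) := by
    rw [Spec.map_comp, ← Scheme.toSpecΓ_naturality_assoc, toSpecΓ_SpecMap_ΓSpecIso_inv, Category.comp_id]
  conv_lhs => rw [hp, Scheme.fromSpecStalk_toSpecΓ_assoc, ← Spec.map_comp]
  rfl

variable (k : Type u) [Field k] (X Y : Scheme.{u}) [X.Over (Spec (CommRingCat.of k))]

theorem existsUnique_of_functionFieldHom [Y.Over (Spec (CommRingCat.of k))]
    [LocallyOfFiniteType (X ↘ (Spec (CommRingCat.of k)))] [IsIntegral X]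
    (hX : ∀ x : X, IsClosed ({x} : Set X) → ringKrullDim (X.presheaf.stalk x) = 1) (hn : Pi1.IsNormalScheme X)
    [IsProper (Y ↘ (Spec (CommRingCat.of k)))] [IsIntegral Y]
    (φ : Y.functionField →ₐ[k] X.functionField) :
    ∃! u : X ⟶ Y, u ≫ (Y ↘ (Spec (CommRingCat.of k))) = X ↘ (Spec (CommRingCat.of k)) ∧
      ∃ hu : u.base (genericPoint X) = genericPoint Y,
        (Y.presheaf.stalkSpecializes (specializes_of_eq hu) ≫ u.stalkMap (genericPoint X)).hom =
          (φ : Y.functionField →+* X.functionField) := by
  set sX := X ↘ (Spec (CommRingCat.of k))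
  set sY := Y ↘ (Spec (CommRingCat.of k))
  haveI : IsLocallyNoetherian X := LocallyOfFiniteType.isLocallyNoetherian sX
  let φ' : Y.presheaf.stalk (genericPoint Y) ⟶ X.presheaf.stalk (genericPoint X) :=
    CommRingCat.ofHom (φ : Y.functionField →+* X.functionField)
  let δ : Spec (X.presheaf.stalk (genericPoint X)) ⟶ Y := Spec.map φ' ≫ Y.fromSpecStalk (genericPoint Y)
  have hk : CommRingCat.ofHom (Curv2.stalkMap k Y (genericPoint Y)) ≫ φ' =
      CommRingCat.ofHom (Curv2.stalkMap k X (genericPoint X)) :=
    CommRingCat.hom_ext (RingHom.ext fun c => φ.commutes c)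
  have hδ : δ ≫ sY = X.fromSpecStalk (genericPoint X) ≫ sX := by
    rw [Category.assoc, over_spec k Y, over_spec k X, ← Spec.map_comp, hk]
  obtain ⟨U, hU, g, hg, hgs⟩ := spread_out_of_isGermInjective' sX sY δ hδ
  have hUd : Dense (U : Set X) := by
    rw [dense_iff_closure_eq, Set.eq_univ_iff_forall]
    exact fun z => (genericPoint_specializes z).mem_closed isClosed_closure (subset_closure hU)
  obtain ⟨u, ⟨hu1, hu2⟩, -⟩ := existsUnique_extension sX hX hn sY sX U hUd g hgs
  have hgen : X.fromSpecStalk (genericPoint X) ≫ u = δ := by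
    rw [hg, ← hu1, ← Category.assoc, Scheme.Opens.fromSpecStalkOfMem_ι]
  have hu : u (genericPoint X) = genericPoint Y := by
    have h : u (X.fromSpecStalk (genericPoint X) (closedPoint _)) =
        Y.fromSpecStalk (genericPoint Y) (Spec.map φ' (closedPoint _)) :=
      congrArg (fun m : Spec (X.presheaf.stalk (genericPoint X)) ⟶ Y => m (closedPoint _)) hgen
    rw [Scheme.fromSpecStalk_closedPoint] at h
    haveI : IsLocalHom φ'.hom := ⟨fun a ha => by
      by_contra hn'
      have h0 : a = 0 := not_not.mp fun h0 => hn' (isUnit_iff_ne_zero.mpr (show (a : Y.functionField) ≠ 0 from h0))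
      exact not_isUnit_zero (M₀ := X.functionField) (by simpa [h0] using ha)⟩
    rw [h]
    exact (congrArg (Y.fromSpecStalk (genericPoint Y)) (comap_closedPoint φ'.hom)).trans
      Scheme.fromSpecStalk_closedPoint
  have key : ∀ (v : X ⟶ Y) (hv : v (genericPoint X) = genericPoint Y),
      Spec.map (Y.presheaf.stalkSpecializes (specializes_of_eq hv) ≫ v.stalkMap (genericPoint X)) ≫
        Y.fromSpecStalk (genericPoint Y) = X.fromSpecStalk (genericPoint X) ≫ v := fun v hv => by
    rw [Spec.map_comp, Category.assoc, Scheme.SpecMap_stalkSpecializes_fromSpecStalk,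
      Scheme.SpecMap_stalkMap_fromSpecStalk]
  refine ⟨u, ⟨hu2, hu, ?_⟩, ?_⟩
  · have h := key u hu
    rw [hgen] at h
    exact congrArg CommRingCat.Hom.hom (Spec.map_injective ((cancel_mono (Y.fromSpecStalk _)).mp h))
  · rintro v ⟨hv1, hv, hvφ⟩
    have h := key v hv
    rw [show Y.presheaf.stalkSpecializes (specializes_of_eq hv) ≫ v.stalkMap (genericPoint X) = φ' from
      CommRingCat.hom_ext hvφ] at h
    haveI : IsDominant (X.fromSpecStalk (genericPoint X)) := ⟨by
      rw [denseRange_iff_closure_range, Set.eq_univ_iff_forall]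
      exact fun z => (genericPoint_specializes z).mem_closed isClosed_closure
        (subset_closure ⟨_, Scheme.fromSpecStalk_closedPoint⟩)⟩
    exact ext_of_isDominant_of_isSeparated sY (hv1.trans hu2.symm) (X.fromSpecStalk (genericPoint X))
      (h.symm.trans hgen.symm)

variable [IsProper (X ↘ (Spec (CommRingCat.of k)))] [IsIntegral X]

theorem localRings_eq_valuationSubrings
    (hX : ∀ x : X, IsClosed ({x} : Set X) → ringKrullDim (X.presheaf.stalk x) = 1) (hn : Pi1.IsNormalScheme X) :
    (∀ x : X, x ≠ genericPoint X → ∃ R : ValuationSubring X.functionField, R ≠ ⊤ ∧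
        (R : Set X.functionField) = Set.range (algebraMap (X.presheaf.stalk x) X.functionField)) ∧
      ∀ R : ValuationSubring X.functionField, R ≠ ⊤ → (∀ c : k, algebraMap k X.functionField c ∈ R) →
        ∃! x : X, (R : Set X.functionField) = Set.range (algebraMap (X.presheaf.stalk x) X.functionField) := by
  set sX := X ↘ (Spec (CommRingCat.of k))
  haveI : IsLocallyNoetherian X := LocallyOfFiniteType.isLocallyNoetherian sX
  haveI : X.IsSeparated := ⟨by
    rw [show terminal.from X = sX ≫ terminal.from _ from terminal.hom_ext _ _]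
    infer_instance⟩
  have hval : ∀ x : X, ValuationRing (X.presheaf.stalk x) := fun x => by
    haveI := isRegularLocalRing_stalk sX hn x (ringKrullDim_stalk_le_one sX hX x)
    haveI := (hn x).1
    exact Eg2RatExt.valuationRing_of_regular _ (ringKrullDim_stalk_le_one sX hX x)
  have hcomp : ∀ (x : X) (z : X.functionField), z ∈ Set.range (algebraMap (X.presheaf.stalk x) X.functionField) ∨
      z⁻¹ ∈ Set.range (algebraMap (X.presheaf.stalk x) X.functionField) := fun x z => by
    haveI := (hn x).1
    haveI := hval x
    rcases ValuationRing.isInteger_or_isInteger (X.presheaf.stalk x) z with h | h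
    · exact Or.inl h
    · exact Or.inr h
  have hinj : ∀ x : X, Function.Injective (algebraMap (X.presheaf.stalk x) X.functionField) := fun x =>
    IsFractionRing.injective _ _
  refine ⟨fun x hx => ?_, fun R hR hk => ?_⟩
  · let R : ValuationSubring X.functionField :=
      ⟨(algebraMap (X.presheaf.stalk x) X.functionField).range, hcomp x⟩
    refine ⟨R, fun htop => hx ?_, rfl⟩
    haveI := (hn x).1
    have hbij : Function.Bijective (algebraMap (X.presheaf.stalk x) X.functionField) :=
      ⟨hinj x, fun z => show z ∈ R from htop ▸ ValuationSubring.mem_top z⟩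
    have hf : IsField (X.presheaf.stalk x) :=
      (RingEquiv.ofBijective _ hbij).toMulEquiv.isField (Field.toIsField X.functionField)
    by_contra hne
    have hlt : x < genericPoint X := by
      refine lt_of_le_not_ge (genericPoint_specializes x) fun h => hne ?_
      exact ((genericPoint_specializes x).antisymm h).eq.symm
    have h0 : ringKrullDim (X.presheaf.stalk x) = 0 := ringKrullDim_eq_zero_of_isField hf
    rw [ringKrullDim_stalk_eq_coheight] at h0
    exact (not_isMax_iff.mpr ⟨_, hlt⟩) (Order.coheight_eq_zero.mp (by exact_mod_cast h0))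
  · let i₂ : Spec (CommRingCat.of R) ⟶ Spec (CommRingCat.of k) :=
      Spec.map (CommRingCat.ofHom ((Curv2.stalkMap k X (genericPoint X)).codRestrict R.toSubring hk))
    have hV : ValuativeCriterion.Existence sX := (UniversallyClosed.eq_valuativeCriterion.le _ _ sX inferInstance).1
    obtain ⟨l, hl, -⟩ := (hV
      { R := R, K := X.functionField, i₁ := X.fromSpecStalk (genericPoint X), i₂ := i₂,
        commSq := ⟨by
          rw [over_spec k X, ← Spec.map_comp]
          rfl⟩ }).exists_lift
    obtain ⟨x, hx1, hx2⟩ : ∃ x, Proj16.IsCentre R x := ⟨_, Proj16.isCentre_of_lift R l hl⟩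
    have hrange : ∀ x : X, Proj16.IsCentre R x →
        (R : Set X.functionField) = Set.range (algebraMap (X.presheaf.stalk x) X.functionField) := by
      rintro x ⟨h1, h2⟩
      refine subset_antisymm (fun z hz => ?_) (by rintro _ ⟨a, rfl⟩; exact h1 a)
      rcases hcomp x z with h | ⟨a, ha⟩
      · exact h
      by_cases hu : IsUnit a
      · obtain ⟨b, hb⟩ := hu.exists_right_inv
        refine ⟨b, ?_⟩
        have : z⁻¹ * algebraMap _ _ b = 1 := by rw [← ha, ← map_mul, hb, map_one]
        rw [eq_inv_of_mul_eq_one_right this, inv_inv]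
      · rcases eq_or_ne z 0 with rfl | hz0
        · exact ⟨0, map_zero _⟩
        · have h := h2 a ((mem_maximalIdeal a).mpr hu)
          rw [ha, ← ValuationSubring.mem_nonunits_iff, ValuationSubring.inv_mem_nonunits_iff] at h
          exact absurd hz (h.resolve_left hz0)
    refine ⟨x, hrange x ⟨hx1, hx2⟩, fun y hy => ?_⟩
    have hy2 : ∀ a ∈ maximalIdeal (X.presheaf.stalk y), algebraMap _ X.functionField a ∈ R.nonunits := by
      intro a ha
      rcases eq_or_ne a 0 with rfl | ha0
      · rw [map_zero]; exact zero_mem _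
      rw [ValuationSubring.mem_nonunits_iff_or]
      refine Or.inr fun hmem => ?_
      obtain ⟨b, hb⟩ : (algebraMap (X.presheaf.stalk y) X.functionField a)⁻¹ ∈ Set.range (algebraMap (X.presheaf.stalk y) X.functionField) := by
        rw [← hy]; exact hmem
      refine (mem_maximalIdeal a).mp ha (IsUnit.of_mul_eq_one b (hinj y ?_))
      rw [map_mul, hb, map_one, mul_inv_cancel₀ ((map_ne_zero_iff _ (hinj y)).mpr ha0)]
    refine Proj16.eq_of_dominated R (CommRingCat.ofHom (algebraMap (X.presheaf.stalk y) X.functionField)) (CommRingCat.ofHom (algebraMap (X.presheaf.stalk x) X.functionField))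
      ((Proj16.specMap_algebraMap_stalk y).trans (Proj16.specMap_algebraMap_stalk x).symm)
      (fun a => ?_) hx1 hy2 (fun a ha => hx2 a ha)
    show algebraMap (X.presheaf.stalk y) X.functionField a ∈ (R : Set X.functionField)
    rw [hy]
    exact ⟨a, rfl⟩

end Groth.Agent.Eg2Curve
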